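import Mathlib
import Groth.Prelude.Def_LefMon
import Groth.Agent.Lib.Helper7.ES9
import Groth.Agent.Lib.Helper7.EX6
import Groth.Agent.Lib.Helper2.HpullA

/-! helper8: the canonical isomorphisms `f⁻¹(M_Y) ≅ M_X` are compatible with composition; the
pullback maps `EtAdic.Hmap` on `H^i(-, Z/ℓ^ν)` are functorial (used for S14758). -/

set_option autoImplicit false

universe u

open CategoryTheory CategoryTheory.Limits AlgebraicGeometry Opposite Abelian

namespace Groth.Agent.H8.HmapF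

open Groth.Agent.H7.ES Groth.Agent.H7.EX Groth.Agent.H2.HpullA

/-- coherence of `pullConstIso` with composition. -/
theorem pullConstIso_comp_inv {X Y Z : Scheme.{u}} (f : X ⟶ Y) (t : Y ⟶ Z)
    (M : AddCommGrpCat.{u + 1}) :
    (EtCore.pullConstIso (f ≫ t)).inv.app M =
      (EtCore.pullConstIso f).inv.app M ≫
        (EtCoh.pull f).map ((EtCore.pullConstIso t).inv.app M) ≫
          (EtCore.pullComp f t).inv.app
            ((constantSheaf Z.smallEtaleTopology AddCommGrpCat.{u + 1}).obj M) := by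
  apply ((EtCore.constAdj X).homEquiv M _).injective
  have h1 := homEquiv_pullConstIso_inv_map (f ≫ t) M _
    (𝟙 ((constantSheaf Z.smallEtaleTopology AddCommGrpCat.{u + 1}).obj M))
  rw [CategoryTheory.Functor.map_id] at h1
  erw [Category.comp_id] at h1
  have h2 := homEquiv_pullConstIso_inv_map t M _
    (𝟙 ((constantSheaf Z.smallEtaleTopology AddCommGrpCat.{u + 1}).obj M))
  rw [CategoryTheory.Functor.map_id] at h2
  erw [Category.comp_id] at h2
  have h3 := homEquiv_pullConstIso_inv_map f M _ ((EtCore.pullConstIso t).inv.app M)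
  dsimp only [Functor.comp_obj] at h1 h2 h3 ⊢
  rw [h1, ← Category.assoc, Adjunction.homEquiv_naturality_right, h3, h2, res_comp]
  simp only [Category.assoc]

/-- the `hom` version of the coherence. -/
theorem pullConstIso_comp_hom {X Y Z : Scheme.{u}} (f : X ⟶ Y) (t : Y ⟶ Z)
    (M : AddCommGrpCat.{u + 1}) :
    (EtCore.pullComp f t).inv.app
        ((constantSheaf Z.smallEtaleTopology AddCommGrpCat.{u + 1}).obj M) ≫
      (EtCore.pullConstIso (f ≫ t)).hom.app M =
      (EtCoh.pull f).map ((EtCore.pullConstIso t).hom.app M) ≫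
        (EtCore.pullConstIso f).hom.app M := by
  have h := pullConstIso_comp_inv f t M
  have hL : ((EtCore.pullConstIso f).inv.app M ≫
        (EtCoh.pull f).map ((EtCore.pullConstIso t).inv.app M)) ≫
      ((EtCore.pullComp f t).inv.app
        ((constantSheaf Z.smallEtaleTopology AddCommGrpCat.{u + 1}).obj M) ≫
      (EtCore.pullConstIso (f ≫ t)).hom.app M) = 𝟙 _ := by
    have := Iso.inv_hom_id_app (EtCore.pullConstIso (f ≫ t)) M
    rw [h] at this
    simpa only [Category.assoc] using this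
  have hR : ((EtCore.pullConstIso f).inv.app M ≫
        (EtCoh.pull f).map ((EtCore.pullConstIso t).inv.app M)) ≫
      ((EtCoh.pull f).map ((EtCore.pullConstIso t).hom.app M) ≫
        (EtCore.pullConstIso f).hom.app M) = 𝟙 _ := by
    rw [Category.assoc, ← (EtCoh.pull f).map_comp_assoc, Iso.inv_hom_id_app,
      CategoryTheory.Functor.map_id, Category.id_comp, Iso.inv_hom_id_app]
  haveI : IsIso ((EtCore.pullConstIso f).inv.app M ≫
        (EtCoh.pull f).map ((EtCore.pullConstIso t).inv.app M)) := inferInstance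
  rw [← cancel_epi ((EtCore.pullConstIso f).inv.app M ≫
        (EtCoh.pull f).map ((EtCore.pullConstIso t).inv.app M)), hL, hR]

/-- `Hpull` along a composite, explicitly. -/
theorem Hpull_comp_eq {X Y Z : Scheme.{u}} (f : X ⟶ Y) (t : Y ⟶ Z)
    [PreservesFiniteLimits (EtCoh.pull f)] [PreservesFiniteLimits (EtCoh.pull t)]
    [PreservesFiniteLimits (EtCoh.pull (f ≫ t))] (F : EtCoh.Ab Z) (n : ℕ) (x : EtCoh.H Z F n) :
    EtCore.Hpull (f ≫ t) F n x =
      (EtCore.Hpull f ((EtCoh.pull t).obj F) n (EtCore.Hpull t F n x)).comp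
        (Ext.mk₀ ((EtCore.pullComp f t).inv.app F)) (add_zero n) := by
  rw [Hpull_apply, Hpull_apply, Hpull_apply]
  exact restr_comp (EtCore.pullComp f t).symm (EtCore.pullConst t ℤ) (EtCore.pullConst f ℤ)
    (EtCore.pullConst (f ≫ t) ℤ) (pullConstIso_comp_inv f t _) x

theorem HF_map_hom {S : Scheme.{u}} {A B : EtCoh.Ab S} (v : A ⟶ B) (n : ℕ) (x : EtCoh.H S A n) :
    ((EtCoh.HF S n).map v).hom x = x.comp (Ext.mk₀ v) (add_zero n) := rfl

theorem Hmap_apply (ℓ : ℕ) {X Y : Scheme.{u}} (f : Y ⟶ X)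
    (hf : PreservesFiniteLimits (EtCoh.pull f)) (i ν : ℕ) (x : EtAdic.Hmod X ℓ i ν) :
    EtAdic.Hmap ℓ f hf i ν x =
      (@EtCore.Hpull _ _ f hf (EtCoh.const X (ZMod (ℓ ^ ν))) i x).comp
        (Ext.mk₀ (EtCore.pullConst f (ZMod (ℓ ^ ν))).hom) (add_zero i) := rfl

/-- functoriality of `Hmap`. -/
theorem Hmap_comp (ℓ : ℕ) {X Y Z : Scheme.{u}} (f : X ⟶ Y) (t : Y ⟶ Z)
    (hf : PreservesFiniteLimits (EtCoh.pull f)) (ht : PreservesFiniteLimits (EtCoh.pull t))
    (hft : PreservesFiniteLimits (EtCoh.pull (f ≫ t))) (i ν : ℕ) (x : EtAdic.Hmod Z ℓ i ν) :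
    EtAdic.Hmap ℓ (f ≫ t) hft i ν x = EtAdic.Hmap ℓ f hf i ν (EtAdic.Hmap ℓ t ht i ν x) := by
  haveI := hf
  haveI := ht
  haveI := hft
  rw [Hmap_apply, Hmap_apply, Hmap_apply, Hpull_comp_eq f t]
  have hn := Hpull_naturality f (EtCore.pullConst t (ZMod (ℓ ^ ν))).hom i
    (EtCore.Hpull t (EtCoh.const Z (ZMod (ℓ ^ ν))) i x)
  rw [Sheaf.H.map_apply, Sheaf.H.map_apply] at hn
  rw [hn, Ext.comp_assoc_of_third_deg_zero, Ext.comp_assoc_of_third_deg_zero, Ext.mk₀_comp_mk₀,
    Ext.mk₀_comp_mk₀]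
  congr 2
  exact pullConstIso_comp_hom f t _

theorem Hmap_congr (ℓ : ℕ) {X Y : Scheme.{u}} {f g : Y ⟶ X} (h : f = g)
    (hf : PreservesFiniteLimits (EtCoh.pull f)) (hg : PreservesFiniteLimits (EtCoh.pull g))
    (i ν : ℕ) (x : EtAdic.Hmod X ℓ i ν) :
    EtAdic.Hmap ℓ f hf i ν x = EtAdic.Hmap ℓ g hg i ν x := by
  subst h
  rfl

end Groth.Agent.H8.HmapF
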